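import Groth.Agent.H8.RelSpec.Sys

/-!
# The sheaf of compatible families of points of a cartesian system
-/

set_option autoImplicit false
set_option linter.style.haveILetI false
set_option backward.isDefEq.respectTransparency false
set_option backward.isDefEq.respectTransparency.types false

universe u

open CategoryTheory CategoryTheory.Limits AlgebraicGeometry Opposite
open Groth.Agent.Lib.AlgSpace

namespace Groth.Agent.H8.RelSpec

open AlgSp (Sp yon RepWith IsAlgSpace EtOver)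

variable {S : Scheme.{u}} {X : Sp S}

/-- A compatible family of points of the normalisations on all charts. -/
structure Fam (D : Sys X) (T : Over S) : Type (u + 1) where
  x : (yon S).obj T ⟶ X
  s : ∀ (C : Aff X) (A : Over S) (p : A ⟶ T) (v : A ⟶ C.1.obj.left),
    (yon S).map p ≫ x = (yon S).map v ≫ C.1.obj.hom → (A ⟶ (D.N C))
  hover : ∀ C A p v h, s C A p v h ≫ D.ν C = v
  natA : ∀ C A p v h (A' : Over S) (q : A' ⟶ A) h', s C A' (q ≫ p) (q ≫ v) h' = q ≫ s C A p v h
  natC : ∀ C (C' : Aff X) (φ : C.1 ⟶ C'.1) A p v h h',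
    s C' A p (v ≫ φ.hom.left) h' = s C A p v h ≫ D.map φ

variable {D : Sys X} {T T' : Over S}

theorem Fam.ext' {F G : Fam D T} (hx : F.x = G.x)
    (hs : ∀ C A p v h h', F.s C A p v h = G.s C A p v h') : F = G := by
  obtain ⟨x, s, o, a, c⟩ := F
  obtain ⟨x', s', o', a', c'⟩ := G
  cases hx
  congr
  funext C A p v h
  exact hs C A p v h h

theorem Fam.s_congr (F : Fam D T) (C : Aff X) {A : Over S} {p p' : A ⟶ T} {v v' : A ⟶ C.1.obj.left}
    (hp : p = p') (hv : v = v') (h : (yon S).map p ≫ F.x = (yon S).map v ≫ C.1.obj.hom)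
    (h' : (yon S).map p' ≫ F.x = (yon S).map v' ≫ C.1.obj.hom) : F.s C A p v h = F.s C A p' v' h' := by
  subst hp hv
  rfl

/-- Restriction of a family. -/
noncomputable def Fam.res (φ : T' ⟶ T) (F : Fam D T) : Fam D T' where
  x := (yon S).map φ ≫ F.x
  s C A p v h := F.s C A (p ≫ φ) v (by rw [Functor.map_comp, Category.assoc, h])
  hover C A p v h := F.hover ..
  natA C A p v h A' q h' := by
    rw [← F.natA C A (p ≫ φ) v _ A' q (by rw [← Category.assoc, Functor.map_comp, Category.assoc, h'])]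
    exact F.s_congr C (Category.assoc _ _ _) rfl _ _
  natC C C' ψ A p v h h' := F.natC ..

/-- The presheaf of compatible families. -/
noncomputable def famPsh (D : Sys X) : (Over S)ᵒᵖ ⥤ Type (u + 1) where
  obj T := Fam D T.unop
  map φ := ↾(Fam.res φ.unop)
  map_id T := by
    ext F : 3
    refine Fam.ext' ?_ fun C A p v h h' => ?_
    · change (yon S).map (𝟙 _) ≫ F.x = F.x
      simp
    · exact F.s_congr C (Category.comp_id p) rfl _ _
  map_comp φ ψ := by
    ext F : 3
    refine Fam.ext' ?_ fun C A p v h h' => ?_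
    · change (yon S).map (ψ.unop ≫ φ.unop) ≫ F.x = (yon S).map ψ.unop ≫ (yon S).map φ.unop ≫ F.x
      simp
    · exact F.s_congr C (Category.assoc p _ _).symm rfl _ _

theorem isSheaf_famPsh : Presheaf.IsSheaf (AlgSp.J S) (famPsh D) := by
  rw [isSheaf_iff_isSheaf_of_type]
  intro T R hR fam hfam
  let ι := Σ Z : Over S, {g : Z ⟶ T // R g}
  let Z : ι → Over S := fun i => i.1
  let g : ∀ i : ι, Z i ⟶ T := fun i => i.2.1
  have hcov : Sieve.ofArrows Z g ∈ AlgSp.J S T :=
    (AlgSp.J S).superset_covering (fun W e he => Sieve.ofArrows_mk Z g (⟨W, e, he⟩ : ι)) hR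
  let F : ∀ i : ι, Fam D (Z i) := fun i => fam i.2.1 i.2.2
  have red : ∀ (i : ι) {W : Over S} (e : W ⟶ Z i),
      fam (e ≫ g i) (R.downward_closed i.2.2 e) = (F i).res e := fun i W e =>
    Presieve.compatible_iff_sieveCompatible _ |>.1 hfam i.2.1 e i.2.2
  obtain ⟨x, hx, hxu⟩ := exists_desc_of_family Z g hcov (fun i => (F i).x) (fun i j W gi gj e => by
    change ((F i).res gi).x = ((F j).res gj).x
    rw [← red, ← red]
    congr 2)
  -- the value on a chart
  have famS : ∀ (C : Aff X) (W : Over S) (p p' : W ⟶ T) (hp : R p) (hp' : R p') (v v' : W ⟶ C.1.obj.left),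
      p = p' → v = v' → ∀ h₁ h₂,
      (fam p hp).s C W (𝟙 W) v h₁ = (fam p' hp').s C W (𝟙 W) v' h₂ := by
    intro C W p p' hp hp' v v' e e' h₁ h₂
    subst e e'
    rfl
  have key : ∀ (C : Aff X) (A : Over S) (p : A ⟶ T) (v : A ⟶ C.1.obj.left),
      (yon S).map p ≫ x = (yon S).map v ≫ C.1.obj.hom → ∃! n : A ⟶ (D.N C), ∀ (A' : Over S) (q : A' ⟶ A)
        (hq : R (q ≫ p)) h', q ≫ n = (fam (q ≫ p) hq).s C A' (𝟙 A') (q ≫ v) h' := by
    intro C A p v h
    let ι' := Σ A' : Over S, {q : A' ⟶ A // R (q ≫ p)}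
    have hcov' : Sieve.ofArrows (fun i : ι' => i.1) (fun i => i.2.1) ∈ AlgSp.J S A :=
      (AlgSp.J S).superset_covering
        (fun W e he => Sieve.ofArrows_mk (fun i : ι' => i.1) (fun i => i.2.1) (⟨W, e, he⟩ : ι'))
        ((AlgSp.J S).pullback_stable p hR)
    have hh : ∀ (A' : Over S) (q : A' ⟶ A) (hq : R (q ≫ p)),
        (yon S).map (𝟙 A') ≫ (fam (q ≫ p) hq).x = (yon S).map (q ≫ v) ≫ C.1.obj.hom := by
      intro A' q hq
      rw [show (fam (q ≫ p) hq).x = (yon S).map (q ≫ p) ≫ x from (hx ⟨A', q ≫ p, hq⟩).symm]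
      simp [h]
    have hc : ∀ (i : ι') (W : Over S) (e : W ⟶ i.1) h',
        e ≫ (fam (i.2.1 ≫ p) i.2.2).s C i.1 (𝟙 i.1) (i.2.1 ≫ v) (hh _ _ i.2.2) =
          (fam ((e ≫ i.2.1) ≫ p)
            (by rw [Category.assoc]; exact R.downward_closed i.2.2 e)).s C W (𝟙 W)
            ((e ≫ i.2.1) ≫ v) h' := by
      intro i W e h'
      have := red ⟨_, i.2.1 ≫ p, i.2.2⟩ e
      have e' : fam ((e ≫ i.2.1) ≫ p) (by rw [Category.assoc]; exact R.downward_closed i.2.2 e) =
          (F ⟨_, i.2.1 ≫ p, i.2.2⟩).res e := by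
        rw [← this]
        congr 1

      have key : ∀ (G : Fam D W) (hG : fam ((e ≫ i.2.1) ≫ p)
            (by rw [Category.assoc]; exact R.downward_closed i.2.2 e) = G)
          (hh' : (yon S).map (𝟙 W) ≫ G.x = (yon S).map ((e ≫ i.2.1) ≫ v) ≫ C.1.obj.hom),
          (fam ((e ≫ i.2.1) ≫ p) (by rw [Category.assoc]; exact R.downward_closed i.2.2 e)).s C W
            (𝟙 W) ((e ≫ i.2.1) ≫ v) h' = G.s C W (𝟙 W) ((e ≫ i.2.1) ≫ v) hh' := by
        intro G hG hh'; subst hG; rfl
      rw [key _ e' (by rw [← e']; exact h')]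
      rw [← (F ⟨_, i.2.1 ≫ p, i.2.2⟩).natA C i.1 (𝟙 i.1) (i.2.1 ≫ v) _ W e (by
        have := hh _ _ i.2.2
        simp only [Functor.map_comp, CategoryTheory.Functor.map_id, Category.assoc,
          Category.id_comp] at this ⊢
        rw [this])]
      exact (F ⟨_, i.2.1 ≫ p, i.2.2⟩).s_congr C (by simp) (by simp) _ _
    obtain ⟨n, hn, hnu⟩ := exists_desc_of_family (fun i : ι' => i.1) (fun i => i.2.1) hcov'
      (fun i => (yon S).map ((fam (i.2.1 ≫ p) i.2.2).s C i.1 (𝟙 i.1) (i.2.1 ≫ v) (hh _ _ i.2.2)))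
      (fun i j W gi gj e => by
        rw [← Functor.map_comp, ← Functor.map_comp, hc i W gi (hh _ _ _), hc j W gj (hh _ _ _)]
        exact congrArg _ (famS C W _ _ _ _ _ _ (by rw [e]) (by rw [e]) _ _))
    obtain ⟨n, rfl⟩ := (yon S).map_surjective n
    refine ⟨n, fun A' q hq h' => (yon S).map_injective (by
      rw [Functor.map_comp]; exact hn ⟨A', q, hq⟩), fun n' hn' => (yon S).map_injective
        (hnu _ fun i => by rw [← Functor.map_comp, hn' i.1 i.2.1 i.2.2 (hh _ _ _)])⟩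
  choose s hs hsu using key
  have cov2 : ∀ {A : Over S} (p : A ⟶ T) {V : Over S} (a b : A ⟶ V),
      (∀ (A' : Over S) (q : A' ⟶ A), R (q ≫ p) → q ≫ a = q ≫ b) → a = b := by
    intro A p V a b hab
    refine (yon S).map_injective (hom_ext_of_family
      (fun i : (Σ A' : Over S, {q : A' ⟶ A // R (q ≫ p)}) => i.1) (fun i => i.2.1)
      ((AlgSp.J S).superset_covering (fun W e he => Sieve.ofArrows_mk
        (fun i : (Σ A' : Over S, {q : A' ⟶ A // R (q ≫ p)}) => i.1) (fun i => i.2.1) ⟨W, e, he⟩)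
        ((AlgSp.J S).pullback_stable p hR)) fun i => ?_)
    rw [← Functor.map_comp, ← Functor.map_comp, hab i.1 i.2.1 i.2.2]
  have hh : ∀ (C : Aff X) (A : Over S) (p : A ⟶ T) (v : A ⟶ C.1.obj.left)
      (_ : (yon S).map p ≫ x = (yon S).map v ≫ C.1.obj.hom) (A' : Over S) (q : A' ⟶ A) (hq : R (q ≫ p)),
      (yon S).map (𝟙 A') ≫ (fam (q ≫ p) hq).x = (yon S).map (q ≫ v) ≫ C.1.obj.hom := by
    intro C A p v h A' q hq
    rw [show (fam (q ≫ p) hq).x = (yon S).map (q ≫ p) ≫ x from (hx ⟨A', q ≫ p, hq⟩).symm]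
    simp [h]
  let G : Fam D T :=
    { x := x
      s := fun C A p v h => s C A p v h
      hover := fun C A p v h => cov2 p _ _ fun A' q hq => by
        rw [← Category.assoc, hs C A p v h A' q hq (hh C A p v h A' q hq)]
        exact (fam (q ≫ p) hq).hover ..
      natA := fun C A p v h A' q h' => cov2 (q ≫ p) _ _ fun A'' q' hq => by
        have hq' : R ((q' ≫ q) ≫ p) := by rwa [Category.assoc]
        rw [hs C A' (q ≫ p) (q ≫ v) h' A'' q' hq (hh C A' _ _ h' A'' q' hq)]
        refine Eq.trans ?_ ((hs C A p v h A'' (q' ≫ q) hq' (hh C A p v h A'' _ hq')).symm.trans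
          (Category.assoc _ _ _))
        exact famS _ _ _ _ _ _ _ _ (Category.assoc _ _ _).symm (Category.assoc _ _ _).symm _ _
      natC := fun C C' φ A p v h h' => cov2 p _ _ fun A' q hq => by
        rw [hs C' A p (v ≫ φ.hom.left) h' A' q hq (hh C' A p _ h' A' q hq)]
        refine Eq.trans ?_ ((congrArg (· ≫ D.map φ) (hs C A p v h A' q hq (hh C A p v h A' q hq))).symm.trans
          (Category.assoc _ _ _))
        rw [← (fam (q ≫ p) hq).natC C C' φ A' (𝟙 A') (q ≫ v) _
            (by rw [Category.assoc]; exact hh C' A p _ h' A' q hq)]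
        exact Fam.s_congr _ C' rfl (Category.assoc _ _ _).symm _ _ }
  refine ⟨G, fun W e he => ?_, fun H hH => ?_⟩
  · refine Fam.ext' (hx ⟨W, e, he⟩) fun C A p v h h' => ?_
    have h₀ : (yon S).map (p ≫ e) ≫ x = (yon S).map v ≫ C.1.obj.hom := by
      rw [Functor.map_comp, Category.assoc]; exact h
    have hR' : R (p ≫ e) := R.downward_closed he p
    have hR'' : R (𝟙 A ≫ p ≫ e) := by rwa [Category.id_comp]
    change s C A (p ≫ e) v h₀ = _
    have := hs C A (p ≫ e) v h₀ A (𝟙 A) hR'' (hh C A _ v h₀ A _ hR'')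
    rw [Category.id_comp] at this
    refine this.trans ?_
    have e1 : fam (𝟙 A ≫ p ≫ e) hR'' = (fam e he).res p := by
      refine Eq.trans ?_ (red ⟨W, e, he⟩ p)
      congr 1
    have key : ∀ (G' : Fam D A) (_ : fam (𝟙 A ≫ p ≫ e) hR'' = G') h₁ h₂,
        (fam (𝟙 A ≫ p ≫ e) hR'').s C A (𝟙 A) (𝟙 A ≫ v) h₁ = G'.s C A (𝟙 A) (𝟙 A ≫ v) h₂ := by
      intro G' hG h₁ h₂; subst hG; rfl
    rw [key _ e1 _ (by rw [← e1]; exact hh C A _ v h₀ A _ hR'')]
    exact Fam.s_congr _ C (Category.id_comp p) (Category.id_comp v) _ _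
  · have hxH : H.x = x := hxu _ fun i => congrArg Fam.x (hH i.2.1 i.2.2)
    refine Fam.ext' hxH fun C A p v h h' => ?_
    refine hsu C A p v h' _ fun A' q hq h'' => ?_
    rw [← H.natA C A p v h A' q (by
      rw [hxH, Functor.map_comp, Category.assoc, h', Functor.map_comp, Category.assoc])]
    have key : ∀ (G' : Fam D A') (_ : fam (q ≫ p) hq = G') h₂,
        (fam (q ≫ p) hq).s C A' (𝟙 A') (q ≫ v) h'' = G'.s C A' (𝟙 A') (q ≫ v) h₂ := by
      intro G' hG h₂; subst hG; rfl
    rw [key _ (hH (q ≫ p) hq).symm (by rw [hH (q ≫ p) hq]; exact h'')]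
    exact Fam.s_congr _ C (Category.id_comp _).symm rfl _ _

/-- The spectrum as a sheaf. -/
noncomputable def spec (D : Sys X) : Sp S := ⟨famPsh D, isSheaf_famPsh⟩

/-- Maps from schemes to the spectrum. -/
noncomputable def toFam (a : (yon S).obj T ⟶ spec D) : Fam D T := secEquiv T a

/-- The map from a scheme given by a family. -/
noncomputable def ofFam (F : Fam D T) : (yon S).obj T ⟶ spec D :=
  (secEquiv (F := spec D) T).symm F

theorem toFam_ofFam (F : Fam D T) : toFam (ofFam F) = F := Equiv.apply_symm_apply _ _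

theorem toFam_injective {a b : (yon S).obj T ⟶ spec D} (h : toFam a = toFam b) : a = b :=
  (secEquiv T).injective h

theorem toFam_map (q : T' ⟶ T) (a : (yon S).obj T ⟶ spec D) :
    toFam ((yon S).map q ≫ a) = (toFam a).res q :=
  secEquiv_map q a

/-- The projection. -/
noncomputable def proj (D : Sys X) : spec D ⟶ X :=
  homMkYon (fun _ a => (toFam a).x) (fun q a => by rw [toFam_map]; rfl)

theorem comp_proj (a : (yon S).obj T ⟶ spec D) : a ≫ proj D = (toFam a).x :=
  comp_homMkYon _ (fun q a => by rw [toFam_map]; rfl) a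

end Groth.Agent.H8.RelSpec
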