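import Groth.Agent.H8.RelSpec.Fam
import Groth.Agent.Lib.AlgSpMor.RepDescent
import Groth.Agent.Lib.AlgSpMor.RepBySp

/-!
# The spectrum of a cartesian system
-/

set_option autoImplicit false
set_option linter.style.haveILetI false
set_option backward.isDefEq.respectTransparency false
set_option backward.isDefEq.respectTransparency.types false

universe u

open CategoryTheory CategoryTheory.Limits AlgebraicGeometry Opposite
open Groth.Agent.Lib.AlgSpace Groth.Agent.Lib.AlgSpMor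

namespace Groth.Agent.H8.RelSpec

open AlgSp (Sp yon RepWith IsAlgSpace EtOver)

variable {S : Scheme.{u}} {X : Sp S} {D : Sys X} {T : Over S}

theorem pt_cond {C₀ C : Aff X} {A : Over S} (n : T ⟶ D.N C₀) (p : A ⟶ T) (v : A ⟶ C.1.obj.left)
    (h : (yon S).map p ≫ (yon S).map (n ≫ D.ν C₀) ≫ C₀.1.obj.hom = (yon S).map v ≫ C.1.obj.hom) :
    (yon S).map ((p ≫ n) ≫ D.ν C₀) ≫ C₀.1.obj.hom = (yon S).map v ≫ C.1.obj.hom := by
  rw [← h, Category.assoc, Functor.map_comp, Category.assoc]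

/-- The family of a point of a chart. -/
noncomputable def ofPoint (hX : IsAlgSpace X) (C₀ : Aff X) (n : T ⟶ D.N C₀) : Fam D T where
  x := (yon S).map (n ≫ D.ν C₀) ≫ C₀.1.obj.hom
  s C A p v h := (D.existsUnique_pt hX C₀ C (p ≫ n) v (pt_cond n p v h)).exists.choose
  hover C A p v h := by
    obtain ⟨R, r₁, r₀, sq⟩ := exists_isPullback_yon hX.diag C.1.obj.hom C₀.1.obj.hom
    refine (yon S).map_injective ?_
    have hspec := (D.existsUnique_pt hX C₀ C (p ≫ n) v (pt_cond n p v h)).exists.choose_spec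
    obtain ⟨z, hz⟩ := (yon S).map_surjective
      (sq.lift ((yon S).map v) ((yon S).map ((p ≫ n) ≫ D.ν C₀)) (pt_cond n p v h).symm)
    have hz0 : z ≫ r₀ = (p ≫ n) ≫ D.ν C₀ :=
      (yon S).map_injective (by rw [Functor.map_comp, hz, sq.lift_snd])
    have hz1 : z ≫ r₁ = v := (yon S).map_injective (by rw [Functor.map_comp, hz, sq.lift_fst])
    let RR : EtOver X := EtOver.mk ((yon S).map r₀ ≫ C₀.1.obj.hom)
      (haveI : Etale r₀.left := repWith_property C.1.property sq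
       LocP.repWith_etale_comp r₀ C₀.1.property)
    let π₀ : RR ⟶ C₀.1 := EtOver.homMk r₀ rfl
    let π₁ : RR ⟶ C.1 := EtOver.homMk r₁ sq.w
    have hW : ∀ x : A.left, ∃ (W : Aff X) (j : W.1 ⟶ RR), z.left x ∈ Set.range j.hom.left.left := fun x => by
      obtain ⟨W, j, hW, hx⟩ := Groth.Agent.Lib.EtMod.exists_affine_open_obj (V := RR) (z.left x)
      exact ⟨⟨W, hW⟩, j, hx⟩
    choose W j hx using hW
    have hj : ∀ x, Etale (Limits.pullback.fst z (j x).hom.left).left := fun x =>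
      MorphismProperty.of_isPullback (P := @Etale)
        ((IsPullback.of_hasPullback z (j x).hom.left).map (Over.forget S)).flip (EtOver.etale_left (j x))
    refine hom_ext_of_family (fun x => Limits.pullback z (j x).hom.left)
      (fun x => Limits.pullback.fst z (j x).hom.left)
      (ofArrows_mem_J _ _ (fun x => haveI := hj x; inferInstance) (fun x => haveI := hj x; inferInstance)
        fun x => ?_) fun x => ?_
    · obtain ⟨w, hw⟩ := hx x
      obtain ⟨y, hy, -⟩ := Scheme.exists_preimage_of_isPullback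
        ((IsPullback.of_hasPullback z (j x).hom.left).map (Over.forget S)) x w hw.symm
      exact ⟨x, y, hy⟩
    · let g := Limits.pullback.fst z (j x).hom.left
      let k := Limits.pullback.snd z (j x).hom.left
      have e : (g ≫ p ≫ n) ≫ D.ν C₀ = k ≫ (j x ≫ π₀).hom.left := by
        change _ = _ ≫ (j x).hom.left ≫ r₀
        rw [← Category.assoc k, ← Limits.pullback.condition]
        simp only [g, Category.assoc, hz0]
      have e1 : k ≫ (j x ≫ π₁).hom.left = g ≫ v := by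
        change _ ≫ (j x).hom.left ≫ r₁ = _
        rw [← Category.assoc, ← Limits.pullback.condition, Category.assoc, hz1]
      rw [← Functor.map_comp, ← Functor.map_comp]
      refine congrArg _ ?_
      rw [← Category.assoc, hspec _ g (W x) (j x ≫ π₀) (j x ≫ π₁)
        ((D.cart (j x ≫ π₀)).lift (g ≫ p ≫ n) k e) ((D.cart _).lift_fst _ _ _)
        (by rw [← Category.assoc, (D.cart _).lift_snd, e1]),
        Category.assoc, (D.cart (j x ≫ π₁)).w, ← Category.assoc, (D.cart _).lift_snd, e1]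
  natA C A p v h A' q h' := by
    refine ((D.existsUnique_pt hX C₀ C ((q ≫ p) ≫ n) (q ≫ v) (pt_cond n _ _ h')).unique
      (D.existsUnique_pt hX C₀ C ((q ≫ p) ≫ n) (q ≫ v) (pt_cond n _ _ h')).exists.choose_spec ?_)
    intro A'' q' E a₀ a₁ m e0 e1
    rw [← Category.assoc]
    exact (D.existsUnique_pt hX C₀ C (p ≫ n) v (pt_cond n p v h)).exists.choose_spec _ (q' ≫ q) E a₀ a₁ m
      (by rw [e0]; simp) (by rw [e1]; simp)
  natC C C' φ A p v h h' := by
    refine ((D.existsUnique_pt hX C₀ C' (p ≫ n) (v ≫ φ.hom.left) (pt_cond n _ _ h')).unique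
      (D.existsUnique_pt hX C₀ C' (p ≫ n) (v ≫ φ.hom.left) (pt_cond n _ _ h')).exists.choose_spec ?_)
    intro A' q E a₀ a₁ m e0 e1
    have hspec := (D.existsUnique_pt hX C₀ C (p ≫ n) v (pt_cond n p v h)).exists.choose_spec
    obtain ⟨P, x1, x2, sq⟩ : ∃ (P : EtOver X) (x1 : P ⟶ E.1) (x2 : P ⟶ E.1), x1 = x2 := ⟨E.1, 𝟙 _, 𝟙 _, rfl⟩
    -- lift the test to the smaller chart
    obtain ⟨R, r₁, r₀, sqR⟩ := exists_isPullback_yon hX.diag C.1.obj.hom C₀.1.obj.hom
    let RR : EtOver X := EtOver.mk ((yon S).map r₀ ≫ C₀.1.obj.hom)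
      (haveI : Etale r₀.left := repWith_property C.1.property sqR
       LocP.repWith_etale_comp r₀ C₀.1.property)
    let π₀ : RR ⟶ C₀.1 := EtOver.homMk r₀ rfl
    let π₁ : RR ⟶ C.1 := EtOver.homMk r₁ sqR.w
    obtain ⟨z, hz⟩ := (yon S).map_surjective (sqR.lift ((yon S).map (q ≫ v))
      ((yon S).map ((q ≫ p ≫ n) ≫ D.ν C₀)) (by
        rw [Functor.map_comp, Functor.map_comp, Category.assoc, ← pt_cond n p v h]; simp))
    have hz0 : z ≫ r₀ = (q ≫ p ≫ n) ≫ D.ν C₀ :=
      (yon S).map_injective (by rw [Functor.map_comp, hz, sqR.lift_snd])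
    have hz1 : z ≫ r₁ = q ≫ v := (yon S).map_injective (by rw [Functor.map_comp, hz, sqR.lift_fst])
    have hW : ∀ x : A'.left, ∃ (W : Aff X) (j : W.1 ⟶ RR), z.left x ∈ Set.range j.hom.left.left := fun x => by
      obtain ⟨W, j, hW, hx⟩ := Groth.Agent.Lib.EtMod.exists_affine_open_obj (V := RR) (z.left x)
      exact ⟨⟨W, hW⟩, j, hx⟩
    choose W j hx using hW
    have hj : ∀ x, Etale (Limits.pullback.fst z (j x).hom.left).left := fun x =>
      MorphismProperty.of_isPullback (P := @Etale)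
        ((IsPullback.of_hasPullback z (j x).hom.left).map (Over.forget S)).flip (EtOver.etale_left (j x))
    refine (yon S).map_injective (hom_ext_of_family (fun x => Limits.pullback z (j x).hom.left)
      (fun x => Limits.pullback.fst z (j x).hom.left)
      (ofArrows_mem_J _ _ (fun x => haveI := hj x; inferInstance) (fun x => haveI := hj x; inferInstance)
        fun x => ?_) fun x => ?_)
    · obtain ⟨w, hw⟩ := hx x
      obtain ⟨y, hy, -⟩ := Scheme.exists_preimage_of_isPullback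
        ((IsPullback.of_hasPullback z (j x).hom.left).map (Over.forget S)) x w hw.symm
      exact ⟨x, y, hy⟩
    · let g := Limits.pullback.fst z (j x).hom.left
      let k := Limits.pullback.snd z (j x).hom.left
      have e : (g ≫ q ≫ p ≫ n) ≫ D.ν C₀ = k ≫ (j x ≫ π₀).hom.left := by
        change _ = _ ≫ (j x).hom.left ≫ r₀
        rw [← Category.assoc k, ← Limits.pullback.condition]
        simp only [g, Category.assoc, hz0]
      have e' : k ≫ (j x ≫ π₁).hom.left = g ≫ q ≫ v := by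
        change _ ≫ (j x).hom.left ≫ r₁ = _
        rw [← Category.assoc, ← Limits.pullback.condition, Category.assoc, hz1]
      obtain ⟨l, l1, l2⟩ : ∃ l, l ≫ D.map (j x ≫ π₀) = g ≫ q ≫ p ≫ n ∧ l ≫ D.ν (W x) = k :=
        ⟨_, (D.cart (j x ≫ π₀)).lift_fst (g ≫ q ≫ p ≫ n) k e, (D.cart _).lift_snd _ _ _⟩
      have key := hspec _ (g ≫ q) (W x) (j x ≫ π₀) (j x ≫ π₁) l (by rw [l1]; simp)
        (by rw [← Category.assoc, l2, e']; simp)
      rw [← Functor.map_comp, ← Functor.map_comp]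
      refine congrArg _ ?_
      change g ≫ q ≫ _ ≫ D.map φ = g ≫ m ≫ D.map a₁
      rw [reassoc_of% key, ← D.map_comp, ← Category.assoc g m]
      refine D.agree hX (j x ≫ π₀) _ a₀ _ _ _ ?_ ?_
      · rw [l1, Category.assoc, e0]
      · change l ≫ D.ν (W x) ≫ ((j x ≫ π₁).hom.left ≫ φ.hom.left) = _
        rw [← Category.assoc l, l2, ← Category.assoc k, e']
        simp only [Category.assoc, e1]

theorem ofPoint_s (hX : IsAlgSpace X) (C₀ : Aff X) (n : T ⟶ D.N C₀) (C : Aff X) {A : Over S} (p : A ⟶ T)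
    (v : A ⟶ C.1.obj.left) (h) {A' : Over S} (q : A' ⟶ A) (E : Aff X) (a₀ : E.1 ⟶ C₀.1)
    (a₁ : E.1 ⟶ C.1) (m : A' ⟶ D.N E) (e0 : m ≫ D.map a₀ = q ≫ p ≫ n)
    (e1 : m ≫ D.ν E ≫ a₁.hom.left = q ≫ v) :
    q ≫ (ofPoint hX C₀ n).s C A p v h = m ≫ D.map a₁ :=
  (D.existsUnique_pt hX C₀ C (p ≫ n) v (pt_cond n p v h)).exists.choose_spec A' q E a₀ a₁ m e0 e1

/-- Families over a chart are points of it. -/
theorem eq_ofPoint (hX : IsAlgSpace X) (C₀ : Aff X) (F : Fam D T) (v₀ : T ⟶ C₀.1.obj.left)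
    (hF : F.x = (yon S).map v₀ ≫ C₀.1.obj.hom) (h) :
    F = ofPoint hX C₀ (F.s C₀ T (𝟙 T) v₀ h) := by
  have hx : F.x = (ofPoint hX C₀ (F.s C₀ T (𝟙 T) v₀ h)).x := by
    change F.x = (yon S).map (F.s C₀ T (𝟙 T) v₀ h ≫ D.ν C₀) ≫ C₀.1.obj.hom
    rw [F.hover, hF]
  refine Fam.ext' hx fun C A p v hv hv' => ?_
  refine ((D.existsUnique_pt hX C₀ C (p ≫ F.s C₀ T (𝟙 T) v₀ h) v (pt_cond _ p v hv')).unique
    ?_ (D.existsUnique_pt hX C₀ C (p ≫ F.s C₀ T (𝟙 T) v₀ h) v (pt_cond _ p v hv')).exists.choose_spec)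
  intro A' q E a₀ a₁ m e0 e1
  have hm : (yon S).map (q ≫ p) ≫ F.x = (yon S).map (m ≫ D.ν E) ≫ E.1.obj.hom := by
    rw [Functor.map_comp, Category.assoc, hv, ← EtOver.w a₁, ← Category.assoc, ← Category.assoc,
      ← Functor.map_comp, ← Functor.map_comp, Category.assoc, e1]
  have hv0 : (m ≫ D.ν E) ≫ a₀.hom.left = (q ≫ p) ≫ v₀ := by
    rw [Category.assoc, ← (D.cart a₀).w, reassoc_of% e0, F.hover, Category.assoc]
  have key : m = F.s E A' (q ≫ p) (m ≫ D.ν E) hm := by
    refine (D.cart a₀).hom_ext ?_ ?_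
    · have h1 : (yon S).map (q ≫ p) ≫ F.x = (yon S).map ((m ≫ D.ν E) ≫ a₀.hom.left) ≫ C₀.1.obj.hom := by
        rw [hv0, Functor.map_comp _ (q ≫ p) v₀, Category.assoc, ← hF]
      rw [← F.natC E C₀ a₀ A' (q ≫ p) _ hm h1, e0,
        F.s_congr C₀ (Category.comp_id _).symm hv0 h1 (by rw [Category.comp_id, ← hv0]; exact h1),
        F.natA C₀ T (𝟙 T) v₀ h A' (q ≫ p), Category.assoc]
    · rw [F.hover]
  have h2 : (yon S).map (q ≫ p) ≫ F.x = (yon S).map ((m ≫ D.ν E) ≫ a₁.hom.left) ≫ C.1.obj.hom := by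
    rw [Category.assoc m, e1, Functor.map_comp, Category.assoc, hv, Functor.map_comp, Category.assoc]
  have h3 : (yon S).map (q ≫ p) ≫ F.x = (yon S).map (q ≫ v) ≫ C.1.obj.hom := by
    rw [Functor.map_comp, Category.assoc, hv, Functor.map_comp, Category.assoc]
  rw [← F.natA C A p v hv A' q h3,
    F.s_congr C rfl (show q ≫ v = (m ≫ D.ν E) ≫ a₁.hom.left by rw [Category.assoc, e1]) h3 h2,
    F.natC E C a₁ A' (q ≫ p) _ hm h2, ← key]

/-- The section on the identity gives back the point. -/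
theorem ofPoint_s_self (hX : IsAlgSpace X) (C₀ : Aff X) (n : T ⟶ D.N C₀) (h) :
    (ofPoint hX C₀ n).s C₀ T (𝟙 T) (n ≫ D.ν C₀) h = n := by
  have hid : ∀ {A : Over S} (m : A ⟶ D.N C₀), m ≫ D.map (𝟙 C₀.1) = m ≫ D.map (𝟙 C₀.1) := fun _ => rfl
  let m := (D.cart (𝟙 C₀.1)).lift n (n ≫ D.ν C₀) (by
    change _ = (n ≫ D.ν C₀) ≫ 𝟙 _
    rw [Category.comp_id])
  have h1 : m ≫ D.map (𝟙 C₀.1) = n := (D.cart _).lift_fst _ _ _
  have h2 : m ≫ D.ν C₀ = n ≫ D.ν C₀ := (D.cart _).lift_snd _ _ _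
  have := ofPoint_s hX C₀ n C₀ (𝟙 T) (n ≫ D.ν C₀) h (𝟙 T) C₀ (𝟙 _) (𝟙 _) m
    (by rw [h1, Category.id_comp, Category.id_comp]) (by
      change m ≫ D.ν C₀ ≫ 𝟙 _ = _
      rw [Category.comp_id, h2, Category.id_comp])
  rw [Category.id_comp, h1] at this
  exact this

/-- The map from a chart to the spectrum. -/
noncomputable def chartMap (hX : IsAlgSpace X) (C : Aff X) : (yon S).obj (D.N C) ⟶ spec D :=
  ofFam (ofPoint hX C (𝟙 (D.N C)))

theorem ofPoint_res (hX : IsAlgSpace X) (C : Aff X) (n : T ⟶ D.N C) :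
    (ofPoint hX C (𝟙 (D.N C))).res n = ofPoint hX C n := by
  have hx : ((ofPoint hX C (𝟙 (D.N C))).res n).x = (yon S).map (n ≫ D.ν C) ≫ C.1.obj.hom := by
    change (yon S).map n ≫ (yon S).map (𝟙 (D.N C) ≫ D.ν C) ≫ C.1.obj.hom = _
    simp
  refine (eq_ofPoint hX C _ (n ≫ D.ν C) hx (by simp [hx])).trans ?_
  congr 1
  have h : (yon S).map (𝟙 (D.N C)) ≫ (ofPoint hX C (𝟙 (D.N C))).x =
      (yon S).map (𝟙 (D.N C) ≫ D.ν C) ≫ C.1.obj.hom := by simp [ofPoint]
  refine ((Fam.s_congr _ C ((Category.id_comp n).trans (Category.comp_id n).symm)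
    (congrArg (n ≫ ·) (Category.id_comp (D.ν C)).symm) (by simp [ofPoint]) (by simp [ofPoint])).trans
    ((ofPoint hX C (𝟙 (D.N C))).natA C (D.N C) (𝟙 _) (𝟙 _ ≫ D.ν C) h T n (by simp [ofPoint]))).trans ?_
  rw [ofPoint_s_self hX C (𝟙 (D.N C))]
  exact Category.comp_id n

theorem toFam_map_chartMap (hX : IsAlgSpace X) (C : Aff X) (n : T ⟶ D.N C) :
    toFam ((yon S).map n ≫ chartMap hX C) = ofPoint hX C n := by
  rw [toFam_map, chartMap, toFam_ofFam, ofPoint_res]

theorem isPullback_chartMap (hX : IsAlgSpace X) (C : Aff X) :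
    IsPullback (chartMap hX C) ((yon S).map (D.ν C)) (proj D) C.1.obj.hom := by
  refine isPullback_of_yon ?_ (fun T c c' h1 h2 => ?_) (fun T a b' h => ?_)
  · rw [chartMap, comp_proj, toFam_ofFam]
    change (yon S).map (𝟙 (D.N C) ≫ D.ν C) ≫ C.1.obj.hom = _
    rw [Category.id_comp]
  · obtain ⟨n, rfl⟩ := (yon S).map_surjective c
    obtain ⟨n', rfl⟩ := (yon S).map_surjective c'
    have h2' : n ≫ D.ν C = n' ≫ D.ν C := (yon S).map_injective (by simpa using h2)
    have h1' := congrArg toFam h1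
    rw [toFam_map_chartMap, toFam_map_chartMap] at h1'
    have key : ∀ (G : Fam D T), ofPoint hX C n = G → ∀ h₁ h₂,
        (ofPoint hX C n).s C T (𝟙 T) (n ≫ D.ν C) h₁ = G.s C T (𝟙 T) (n' ≫ D.ν C) h₂ := by
      intro G hG h₁ h₂
      subst hG
      exact Fam.s_congr _ C rfl h2' _ _
    have := key _ h1' (by simp [ofPoint]) (by simp [ofPoint])
    rw [ofPoint_s_self, ofPoint_s_self] at this
    rw [this]
  · obtain ⟨v, rfl⟩ := (yon S).map_surjective b'
    rw [comp_proj] at h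
    have h' : (yon S).map (𝟙 T) ≫ (toFam a).x = (yon S).map v ≫ C.1.obj.hom := by simp [h]
    refine ⟨(yon S).map ((toFam a).s C T (𝟙 T) v h'), toFam_injective ?_, ?_⟩
    · rw [toFam_map_chartMap]
      exact (eq_ofPoint hX C (toFam a) v h h').symm
    · rw [← Functor.map_comp, (toFam a).hover]

/-- The projection has a property as soon as one surjective chart has it. -/
theorem repWith_proj (hX : IsAlgSpace X) (P : MorphismProperty Scheme.{u}) [P.IsStableUnderBaseChange]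
    [P.IsLocalAtTarget Scheme.fppfPrecoverage]
    (heff : ∀ ⦃A B : Scheme.{u}⦄ (p : A ⟶ B), fppfCover p → ∀ D : Desc.SchDD p, P D.obj.hom →
      ∃ (U : Over B) (q : D.obj.left ⟶ U.left), Groth.Agent.Lib.FFDesc.IsDescended D U q)
    (C : Aff X) (hs : RepWith @Surjective C.1.obj.hom) (hP : P (D.ν C).left) : RepWith P (proj D) :=
  RepDescent.repWith_of_cover _ heff hX.diag C.1.property hs (isPullback_chartMap hX C)
    ((AlgSp.repWith_yon_map_iff _ (D.ν C)).2 hP)

end Groth.Agent.H8.RelSpec
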