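import Groth.Agent.Lib.AlgSpace.Local
import Groth.Agent.Lib.AlgSpace.Diag
import Groth.Agent.Lib.AlgSpMor.LocP
import Groth.Agent.Lib.EtMod.Basic

/-!
# Cartesian systems of affine schemes over the affine etale objects
-/

set_option autoImplicit false
set_option linter.style.haveILetI false
set_option backward.isDefEq.respectTransparency false
set_option backward.isDefEq.respectTransparency.types false

universe u

open CategoryTheory CategoryTheory.Limits AlgebraicGeometry Opposite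
open Groth.Agent.Lib.AlgSpace Groth.Agent.Lib.AlgSpMor

namespace Groth.Agent.H8.RelSpec

open AlgSp (Sp yon RepWith IsAlgSpace EtOver)

variable {S : Scheme.{u}} {X : Sp S}

/-- Affine objects of the small etale site. -/
abbrev Aff (X : Sp S) := {E : EtOver X // IsAffine E.obj.left.left}

instance instIsAffineAff (E : Aff X) : IsAffine E.1.obj.left.left := E.2

/-- A cartesian system of affine schemes over the affine etale objects. -/
structure Sys (X : Sp S) where
  N : Aff X → Over S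
  ν : ∀ E : Aff X, N E ⟶ E.1.obj.left
  affine : ∀ E : Aff X, IsAffineHom (ν E).left
  map : ∀ {V E : Aff X}, (V.1 ⟶ E.1) → (N V ⟶ N E)
  cart : ∀ {V E : Aff X} (g : V.1 ⟶ E.1), IsPullback (map g) (ν V) (ν E) g.hom.left
  map_comp : ∀ {W V E : Aff X} (h : W.1 ⟶ V.1) (g : V.1 ⟶ E.1), map (h ≫ g) = map h ≫ map g

variable (F : Sys X)

/-- Two points over two charts agreeing on a chart agree on every other one. -/
theorem Sys.agree (hX : IsAlgSpace X) {C₀ C E E' : Aff X} {A : Over S} (a₀ : E.1 ⟶ C₀.1) (a₁ : E.1 ⟶ C.1)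
    (a₀' : E'.1 ⟶ C₀.1) (a₁' : E'.1 ⟶ C.1) (m : A ⟶ F.N E) (m' : A ⟶ F.N E')
    (h₀ : m ≫ F.map a₀ = m' ≫ F.map a₀')
    (h₁ : m ≫ F.ν E ≫ a₁.hom.left = m' ≫ F.ν E' ≫ a₁'.hom.left) :
    m ≫ F.map a₁ = m' ≫ F.map a₁' := by
  classical
  obtain ⟨R, r₁, r₀, sq⟩ := exists_isPullback_yon hX.diag C.1.obj.hom C₀.1.obj.hom
  have hr : RepWith @Etale ((yon S).map r₀ ≫ C₀.1.obj.hom) :=
    haveI : Etale r₀.left := repWith_property C.1.property sq
    LocP.repWith_etale_comp r₀ C₀.1.property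
  let RR : EtOver X := EtOver.mk ((yon S).map r₀ ≫ C₀.1.obj.hom) hr
  have mk : ∀ (D : Aff X) (b₀ : D.1 ⟶ C₀.1) (b₁ : D.1 ⟶ C.1), ∃ ψ : D.1 ⟶ RR,
      ψ.hom.left ≫ r₀ = b₀.hom.left ∧ ψ.hom.left ≫ r₁ = b₁.hom.left := fun D b₀ b₁ => by
    obtain ⟨k, hk⟩ := (yon S).map_surjective (sq.lift ((yon S).map b₁.hom.left) ((yon S).map b₀.hom.left)
      (by rw [EtOver.w b₁, EtOver.w b₀]))
    have k0 : k ≫ r₀ = b₀.hom.left := (yon S).map_injective (by rw [Functor.map_comp, hk, sq.lift_snd])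
    refine ⟨EtOver.homMk k ?_, k0, (yon S).map_injective (by
      change (yon S).map (k ≫ r₁) = _
      rw [Functor.map_comp, hk, sq.lift_fst])⟩
    change (yon S).map k ≫ (yon S).map r₀ ≫ C₀.1.obj.hom = D.1.obj.hom
    rw [← Category.assoc, ← Functor.map_comp, k0]
    exact EtOver.w b₀
  obtain ⟨ψ, p0, p1⟩ := mk E a₀ a₁
  obtain ⟨ψ', p0', p1'⟩ := mk E' a₀' a₁'
  have hψ : (m ≫ F.ν E) ≫ ψ.hom.left = (m' ≫ F.ν E') ≫ ψ'.hom.left := by
    refine (yon S).map_injective (sq.hom_ext ?_ ?_)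
    · rw [← Functor.map_comp, ← Functor.map_comp]
      simp only [Category.assoc, p1, p1', h₁]
    · rw [← Functor.map_comp, ← Functor.map_comp]
      simp only [Category.assoc, p0, p0', ← (F.cart a₀).w, ← (F.cart a₀').w, reassoc_of% h₀]
  let z : A ⟶ (EtOver.pullbackObj ψ ψ').obj.left :=
    Limits.pullback.lift (m ≫ F.ν E) (m' ≫ F.ν E') hψ
  have hW : ∀ x : A.left, ∃ (W : Aff X) (j : W.1 ⟶ EtOver.pullbackObj ψ ψ'),
      z.left x ∈ Set.range j.hom.left.left := fun x => by
    obtain ⟨W, j, hW, hx⟩ := Groth.Agent.Lib.EtMod.exists_affine_open_obj (z.left x)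
    exact ⟨⟨W, hW⟩, j, hx⟩
  choose W j hx using hW
  have hj : ∀ x, Etale (j x).hom.left.left := fun x => EtOver.etale_left (j x)
  let Z : A.left → Over S := fun x => Limits.pullback z (j x).hom.left
  refine (yon S).map_injective (hom_ext_of_family Z (fun x => Limits.pullback.fst z (j x).hom.left)
    (ofArrows_mem_J _ _ (fun x => ?_) (fun x => ?_) fun x => ?_) fun x => ?_)
  · haveI := hj x
    haveI : Etale (Limits.pullback.fst z (j x).hom.left).left :=
      MorphismProperty.of_isPullback (P := @Etale)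
        ((IsPullback.of_hasPullback z (j x).hom.left).map (Over.forget S)).flip (hj x)
    infer_instance
  · haveI : Etale (Limits.pullback.fst z (j x).hom.left).left :=
      MorphismProperty.of_isPullback (P := @Etale)
        ((IsPullback.of_hasPullback z (j x).hom.left).map (Over.forget S)).flip (hj x)
    infer_instance
  · obtain ⟨w, hw⟩ := hx x
    obtain ⟨y, hy, -⟩ := Scheme.exists_preimage_of_isPullback
      ((IsPullback.of_hasPullback z (j x).hom.left).map (Over.forget S)) x w hw.symm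
    exact ⟨x, y, hy⟩
  · rw [← Functor.map_comp, ← Functor.map_comp]
    refine congrArg _ ?_
    let q := Limits.pullback.fst z (j x).hom.left
    let k := Limits.pullback.snd z (j x).hom.left
    let w : (W x).1 ⟶ E.1 := j x ≫ EtOver.pullbackFst ψ ψ'
    let w' : (W x).1 ⟶ E'.1 := j x ≫ EtOver.pullbackSnd ψ ψ'
    have hk : k ≫ w.hom.left = q ≫ m ≫ F.ν E := by
      change k ≫ (j x).hom.left ≫ Limits.pullback.fst ψ.hom.left ψ'.hom.left = _
      rw [← Category.assoc, ← Limits.pullback.condition, Category.assoc, Limits.pullback.lift_fst]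
    have hk' : k ≫ w'.hom.left = q ≫ m' ≫ F.ν E' := by
      change k ≫ (j x).hom.left ≫ Limits.pullback.snd ψ.hom.left ψ'.hom.left = _
      rw [← Category.assoc, ← Limits.pullback.condition, Category.assoc, Limits.pullback.lift_snd]
    obtain ⟨l, l1, l2⟩ : ∃ l : Z x ⟶ F.N (W x), l ≫ F.map w = q ≫ m ∧ l ≫ F.ν (W x) = k :=
      ⟨(F.cart w).lift (q ≫ m) k (by rw [Category.assoc, hk]), (F.cart w).lift_fst _ _ _,
        (F.cart w).lift_snd _ _ _⟩
    have e0 : w ≫ a₀ = w' ≫ a₀' := by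
      refine EtOver.hom_ext _ _ ?_
      change ((j x).hom.left ≫ Limits.pullback.fst ψ.hom.left ψ'.hom.left) ≫ a₀.hom.left =
        ((j x).hom.left ≫ Limits.pullback.snd ψ.hom.left ψ'.hom.left) ≫ a₀'.hom.left
      rw [← p0, ← p0', Category.assoc, Category.assoc, Limits.pullback.condition_assoc]
    have e1 : w ≫ a₁ = w' ≫ a₁' := by
      refine EtOver.hom_ext _ _ ?_
      change ((j x).hom.left ≫ Limits.pullback.fst ψ.hom.left ψ'.hom.left) ≫ a₁.hom.left =
        ((j x).hom.left ≫ Limits.pullback.snd ψ.hom.left ψ'.hom.left) ≫ a₁'.hom.left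
      rw [← p1, ← p1', Category.assoc, Category.assoc, Limits.pullback.condition_assoc]
    have l3 : l ≫ F.map w' = q ≫ m' := by
      refine (F.cart a₀').hom_ext ?_ ?_
      · rw [Category.assoc, ← F.map_comp, ← e0, F.map_comp, reassoc_of% l1, h₀, Category.assoc]
      · rw [Category.assoc, (F.cart w').w, reassoc_of% l2, hk', Category.assoc]
    change q ≫ m ≫ F.map a₁ = q ≫ m' ≫ F.map a₁'
    rw [← Category.assoc, ← l1, Category.assoc, ← F.map_comp, e1, F.map_comp, reassoc_of% l3]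

/-- A point of one chart determines a point of every other chart. -/
theorem Sys.existsUnique_pt (hX : IsAlgSpace X) (C₀ C : Aff X) {A : Over S} (n : A ⟶ F.N C₀)
    (v : A ⟶ C.1.obj.left)
    (h : (yon S).map (n ≫ F.ν C₀) ≫ C₀.1.obj.hom = (yon S).map v ≫ C.1.obj.hom) :
    ∃! s : A ⟶ F.N C, ∀ (A' : Over S) (q : A' ⟶ A) (E : Aff X) (a₀ : E.1 ⟶ C₀.1) (a₁ : E.1 ⟶ C.1)
      (m : A' ⟶ F.N E), m ≫ F.map a₀ = q ≫ n → m ≫ F.ν E ≫ a₁.hom.left = q ≫ v →
      q ≫ s = m ≫ F.map a₁ := by
  classical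
  obtain ⟨R, r₁, r₀, sq⟩ := exists_isPullback_yon hX.diag C.1.obj.hom C₀.1.obj.hom
  have hr : RepWith @Etale ((yon S).map r₀ ≫ C₀.1.obj.hom) :=
    haveI : Etale r₀.left := repWith_property C.1.property sq
    LocP.repWith_etale_comp r₀ C₀.1.property
  let RR : EtOver X := EtOver.mk ((yon S).map r₀ ≫ C₀.1.obj.hom) hr
  let π₀ : RR ⟶ C₀.1 := EtOver.homMk r₀ rfl
  let π₁ : RR ⟶ C.1 := EtOver.homMk r₁ sq.w
  obtain ⟨z, hz⟩ := (yon S).map_surjective (sq.lift ((yon S).map v) ((yon S).map (n ≫ F.ν C₀)) h.symm)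
  have hz0 : z ≫ r₀ = n ≫ F.ν C₀ := (yon S).map_injective (by rw [Functor.map_comp, hz, sq.lift_snd])
  have hz1 : z ≫ r₁ = v := (yon S).map_injective (by rw [Functor.map_comp, hz, sq.lift_fst])
  have hW : ∀ x : A.left, ∃ (W : Aff X) (j : W.1 ⟶ RR), z.left x ∈ Set.range j.hom.left.left := fun x => by
    obtain ⟨W, j, hW, hx⟩ := Groth.Agent.Lib.EtMod.exists_affine_open_obj (V := RR) (z.left x)
    exact ⟨⟨W, hW⟩, j, hx⟩
  choose W j hx using hW
  have hj : ∀ x, Etale (Limits.pullback.fst z (j x).hom.left).left := fun x =>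
    MorphismProperty.of_isPullback (P := @Etale)
      ((IsPullback.of_hasPullback z (j x).hom.left).map (Over.forget S)).flip (EtOver.etale_left (j x))
  let Z : A.left → Over S := fun x => Limits.pullback z (j x).hom.left
  let g : ∀ x, Z x ⟶ A := fun x => Limits.pullback.fst z (j x).hom.left
  have hcov : Sieve.ofArrows Z g ∈ AlgSp.J S A :=
    ofArrows_mem_J _ _ (fun x => haveI := hj x; inferInstanceAs (Flat (g x).left))
      (fun x => haveI := hj x; inferInstanceAs (LocallyOfFinitePresentation (g x).left)) fun x => by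
      obtain ⟨w, hw⟩ := hx x
      obtain ⟨y, hy, -⟩ := Scheme.exists_preimage_of_isPullback
        ((IsPullback.of_hasPullback z (j x).hom.left).map (Over.forget S)) x w hw.symm
      exact ⟨x, y, hy⟩
  have hm : ∀ x, ∃ m : Z x ⟶ F.N (W x), m ≫ F.map (j x ≫ π₀) = g x ≫ n ∧
      m ≫ F.ν (W x) ≫ (j x ≫ π₁).hom.left = g x ≫ v := fun x => by
    have e : (g x ≫ n) ≫ F.ν C₀ = Limits.pullback.snd z (j x).hom.left ≫ (j x ≫ π₀).hom.left := by
      change _ = _ ≫ (j x).hom.left ≫ r₀
      rw [← Category.assoc _ (j x).hom.left, ← Limits.pullback.condition, Category.assoc, Category.assoc, hz0]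
    refine ⟨(F.cart (j x ≫ π₀)).lift (g x ≫ n) (Limits.pullback.snd z (j x).hom.left) e,
      (F.cart (j x ≫ π₀)).lift_fst _ _ _, ?_⟩
    rw [← Category.assoc, (F.cart (j x ≫ π₀)).lift_snd]
    change _ ≫ (j x).hom.left ≫ r₁ = _
    rw [← Category.assoc, ← Limits.pullback.condition, Category.assoc, hz1]
  choose m hm0 hm1 using hm
  obtain ⟨s, hs, -⟩ := exists_desc_of_family Z g hcov
    (fun x => (yon S).map (m x ≫ F.map (j x ≫ π₁))) fun x y V gx gy e => by
      rw [← Functor.map_comp, ← Functor.map_comp, ← Category.assoc, ← Category.assoc]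
      refine congrArg _ (F.agree hX (j x ≫ π₀) _ (j y ≫ π₀) _ _ _ ?_ ?_)
      · rw [Category.assoc, Category.assoc, hm0, hm0, reassoc_of% e]
      · rw [Category.assoc, Category.assoc, hm1, hm1, reassoc_of% e]
  obtain ⟨s, rfl⟩ := (yon S).map_surjective s
  have hs' : ∀ x, g x ≫ s = m x ≫ F.map (j x ≫ π₁) := fun x =>
    (yon S).map_injective (by rw [Functor.map_comp]; exact hs x)
  have hspec : ∀ (A' : Over S) (q : A' ⟶ A) (E : Aff X) (a₀ : E.1 ⟶ C₀.1) (a₁ : E.1 ⟶ C.1)
      (m' : A' ⟶ F.N E), m' ≫ F.map a₀ = q ≫ n → m' ≫ F.ν E ≫ a₁.hom.left = q ≫ v →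
      q ≫ s = m' ≫ F.map a₁ := fun A' q E a₀ a₁ m' e0 e1 => by
    have hc : ∀ x, Etale (Limits.pullback.fst q (g x)).left := fun x =>
      MorphismProperty.of_isPullback (P := @Etale)
        ((IsPullback.of_hasPullback q (g x)).map (Over.forget S)).flip (hj x)
    refine (yon S).map_injective (hom_ext_of_family (fun x => Limits.pullback q (g x))
      (fun x => Limits.pullback.fst q (g x))
      (ofArrows_mem_J _ _ (fun x => haveI := hc x; inferInstance) (fun x => haveI := hc x; inferInstance)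
        fun a => ?_) fun x => ?_)
    · obtain ⟨w, hw⟩ := hx (q.left a)
      obtain ⟨y, hy, -⟩ := Scheme.exists_preimage_of_isPullback
        ((IsPullback.of_hasPullback z (j (q.left a)).hom.left).map (Over.forget S)) (q.left a) w hw.symm
      obtain ⟨y', hy', -⟩ := Scheme.exists_preimage_of_isPullback
        ((IsPullback.of_hasPullback q (g (q.left a))).map (Over.forget S)) a y hy.symm
      exact ⟨_, y', hy'⟩
    · rw [← Functor.map_comp, ← Functor.map_comp]
      refine congrArg _ ?_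
      rw [Limits.pullback.condition_assoc, hs', ← Category.assoc, ← Category.assoc]
      refine F.agree hX (j x ≫ π₀) _ a₀ _ _ _ ?_ ?_
      · rw [Category.assoc, Category.assoc, hm0, e0, Limits.pullback.condition_assoc]
      · rw [Category.assoc, Category.assoc, hm1, e1, Limits.pullback.condition_assoc]
  refine ⟨s, hspec, fun s' hs'' => (yon S).map_injective (hom_ext_of_family Z g hcov fun x => ?_)⟩
  rw [← Functor.map_comp, ← Functor.map_comp, hs'' _ (g x) _ _ _ (m x) (hm0 x) (hm1 x), hs' x]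

end Groth.Agent.H8.RelSpec
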